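import Groth.Agent.InvX.Frame

/-!
# Comparing modules through frames with the same transition functions
-/

universe u

open CategoryTheory AlgebraicGeometry TopologicalSpace

namespace Groth.Agent.TorsPic

open Groth.Agent Groth.Agent.AModX Groth.Agent.InvX

variable {X : Scheme.{u}} {M N : X.Modules}

/-- Modules with frames having the same transition functions are isomorphic. -/
theorem nonempty_iso_of_frames {ι : Type u} (U : ι → X.Opens) (hcov : ∀ x, ∃ a, x ∈ U a)
    (e : ∀ a, Γ(M, U a)) (he : ∀ a, IsFrame (e a)) (n : ∀ a, Γ(N, U a)) (hn : ∀ a, IsFrame (n a))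
    (hc : ∀ (a b : ι) (W : X.Opens) (ha : W ≤ U a) (hb : W ≤ U b) (g : Γ(X, W)),
      res M hb (e b) = g • res M ha (e a) → res N hb (n b) = g • res N ha (n a)) :
    Nonempty (M ≅ N) := by
  have hc' : ∀ (a b : ι) (W : X.Opens) (ha : W ≤ U a) (hb : W ≤ U b) (g : Γ(X, W)),
      res N hb (n b) = g • res N ha (n a) → res M hb (e b) = g • res M ha (e a) := by
    intro a b W ha hb g hg
    obtain ⟨h, hh⟩ := (he a).exists_coord ha (res M hb (e b))
    rw [(hn a).coord_unique ha (hg.symm.trans (hc a b W ha hb h hh))]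
    exact hh
  let φ : M ⟶ N := ofFrames hcov he hc
  let ψ : N ⟶ M := ofFrames hcov hn hc'
  refine ⟨⟨φ, ψ, hom_ext_of_frames U hcov e he fun a => ?_, hom_ext_of_frames U hcov n hn fun a => ?_⟩⟩
  · show ψ.app (U a) (φ.app (U a) (e a)) = e a
    rw [ofFrames_app hcov he hc a, ofFrames_app hcov hn hc' a]
  · show φ.app (U a) (ψ.app (U a) (n a)) = n a
    rw [ofFrames_app hcov hn hc' a, ofFrames_app hcov he hc a]

end Groth.Agent.TorsPic
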