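import Groth.Agent.AModX.Res
import Mathlib.Dynamics.Newton
import Mathlib.AlgebraicGeometry.Morphisms.ClosedImmersion

/-!
# Roots of units on a thickening
-/

universe u

open CategoryTheory AlgebraicGeometry TopologicalSpace Polynomial

set_option linter.style.haveILetI false
set_option backward.isDefEq.respectTransparency false
set_option backward.isDefEq.respectTransparency.types false

namespace Groth.Agent.TorsPic

open Groth.Agent Groth.Agent.AModX

variable {X Z : Scheme.{u}} (i : X ⟶ Z) [Surjective i]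

theorem isUnit_of_isUnit_app {W : Z.Opens} (a : Γ(Z, W)) (h : IsUnit (i.app W a)) : IsUnit a := by
  have hle : W ≤ Z.basicOpen a := by
    intro p hp
    obtain ⟨q, rfl⟩ := i.surjective p
    have h1 : q ∈ X.basicOpen (i.app W a) := by
      rw [X.basicOpen_of_isUnit h]; exact hp
    rw [← Scheme.preimage_basicOpen] at h1
    exact h1
  have := isUnit_resR (le_refl W) a hle
  rwa [resR_self] at this

theorem eq_one_of_pow_eq_one {W : Z.Opens} (r : Γ(Z, W)) {n : ℕ} (hn : IsUnit (n : Γ(X, i ⁻¹ᵁ W)))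
    (hr : r ^ n = 1) (h1 : i.app W r = 1) : r = 1 := by
  have hs : IsUnit (∑ k ∈ Finset.range n, r ^ k) := by
    refine isUnit_of_isUnit_app i _ ?_
    simp only [map_sum, map_pow, h1, one_pow, Finset.sum_const, Finset.card_range, nsmul_one]
    exact hn
  rw [← sub_eq_zero, ← hs.mul_right_eq_zero, geom_sum_mul, hr, sub_self]

theorem isNilpotent_of_app_eq_zero {W : Z.Opens} (hW : IsAffineOpen W) (a : Γ(Z, W)) (h : i.app W a = 0) :
    IsNilpotent a := by
  have hbot : Z.basicOpen a = ⊥ := by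
    refine eq_bot_iff.2 fun p hp => ?_
    obtain ⟨q, rfl⟩ := i.surjective p
    have h1 : q ∈ X.basicOpen (i.app W a) := by rw [← Scheme.preimage_basicOpen]; exact hp
    rw [h, Scheme.basicOpen_zero] at h1
    exact h1
  rw [← PrimeSpectrum.basicOpen_eq_bot_iff, ← hW.fromSpec_preimage_basicOpen, hbot]
  rfl

theorem exists_root [IsClosedImmersion i] {W : Z.Opens} (hW : IsAffineOpen W) (c : Γ(Z, W)) (hc : IsUnit c)
    (g : Γ(X, i ⁻¹ᵁ W)) {n : ℕ} (hn0 : 0 < n) (hn : IsUnit (n : Γ(X, i ⁻¹ᵁ W)))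
    (hg : g ^ n = i.app W c) : ∃ G : Γ(Z, W), i.app W G = g ∧ G ^ n = c := by
  obtain ⟨G₀, rfl⟩ := i.app_surjective W hW g
  let P : Γ(Z, W)[X] := Polynomial.X ^ n - Polynomial.C c
  have h : IsNilpotent (aeval G₀ P) := isNilpotent_of_app_eq_zero i hW _ (by
    simp only [P, map_sub, map_pow, aeval_X, aeval_C, Algebra.algebraMap_self, RingHom.id_apply, hg, sub_self])
  have hg0 : IsUnit G₀ := by
    refine isUnit_of_isUnit_app i _ ((isUnit_pow_iff hn0.ne').1 ?_)
    rw [hg]
    exact hc.map _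
  have hn' : IsUnit (n : Γ(Z, W)) := isUnit_of_isUnit_app i _ (by rw [map_natCast]; exact hn)
  have h' : IsUnit (aeval G₀ (derivative P)) := by
    simp only [P, derivative_sub, derivative_X_pow, derivative_C, sub_zero, map_mul, aeval_C, map_pow, aeval_X,
      Algebra.algebraMap_self, RingHom.id_apply]
    exact hn'.mul (hg0.pow _)
  obtain ⟨r, ⟨hr1, hr2⟩, -⟩ := Polynomial.existsUnique_nilpotent_sub_and_aeval_eq_zero h h'
  simp only [P, map_sub, map_pow, aeval_X, aeval_C, Algebra.algebraMap_self, RingHom.id_apply, sub_eq_zero] at hr2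
  -- compare on `X`
  refine ⟨r, ?_, hr2⟩
  have h3 : IsNilpotent (i.app W G₀ - i.app W r) := by
    rw [← map_sub]; exact hr1.map _
  have h4 : (i.app W r) ^ n = (i.app W G₀) ^ n := by rw [← map_pow, hr2, hg]
  obtain ⟨q, -, huniq⟩ := Polynomial.existsUnique_nilpotent_sub_and_aeval_eq_zero
    (P := (Polynomial.X ^ n - Polynomial.C (i.app W c) : Γ(X, i ⁻¹ᵁ W)[X])) (x := i.app W G₀)
    (by simp [hg]) (by
      simp only [derivative_sub, derivative_X_pow, derivative_C, sub_zero, map_mul, aeval_C, map_pow, aeval_X,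
        Algebra.algebraMap_self, RingHom.id_apply]
      exact hn.mul ((hg0.map (i.app W).hom).pow _))
  rw [huniq _ ⟨h3, by simp [h4, hg]⟩, huniq (i.app W G₀) ⟨by simp, by simp [hg]⟩]

end Groth.Agent.TorsPic
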