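import Groth.Agent.TorsPic.Iso
import Groth.Agent.TorsPic.Root
import Groth.Agent.H23.CocycleMod
import Groth.Agent.AmpleX.Extend
import Groth.Agent.InvX.Pullback
import Groth.Agent.InvX.GenLocusPull
import Groth.Prelude.Def_MoreMor

/-!
# Lifting torsion classes along thickenings
-/

universe u

open CategoryTheory AlgebraicGeometry TopologicalSpace

set_option linter.style.haveILetI false
set_option maxHeartbeats 1000000
set_option backward.isDefEq.respectTransparency false
set_option backward.isDefEq.respectTransparency.types false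

namespace Groth.Agent.TorsPic

open Groth.Agent Groth.Agent.AModX Groth.Agent.InvX Groth.Agent.AmpleX

variable {X Z : Scheme.{u}} (i : X ⟶ Z)

theorem app_resR {V W : Z.Opens} (h : W ≤ V) (a : Γ(Z, V)) :
    i.app W (resR h a) = resR (i.preimage_mono h) (i.app V a) :=
  congrArg (fun k => k.hom a) (i.naturality (homOfLE h).op)

variable [IsClosedImmersion i] [Surjective i]

theorem exists_chart {L : X.Modules} (hL : PicF.IsInvertible L) (p : Z) :
    ∃ (U : Z.Opens) (_ : p ∈ U) (_ : IsAffineOpen U) (e : Γ(L, i ⁻¹ᵁ U)), IsFrame e := by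
  obtain ⟨q, rfl⟩ := i.surjective p
  obtain ⟨V, hqV, e, he⟩ := exists_frame hL q
  obtain ⟨O, hO, hOV⟩ := i.isClosedEmbedding.isInducing.isOpen_iff.1 V.2
  obtain ⟨_, ⟨U, hU, rfl⟩, hqU, hUO⟩ := Z.isBasis_affineOpens.exists_subset_of_mem_open
    (show i q ∈ O from (hOV.ge hqV : _)) hO
  have hle : i ⁻¹ᵁ U ≤ V := fun x hx => hOV.le (show x ∈ i ⁻¹' O from hUO hx)
  exact ⟨U, hqU, hU, _, he.res hle⟩

/-- The `n`-th root on an arbitrary open, by gluing. -/
theorem exists_root' {W : Z.Opens} (c : Γ(Z, W)) (hc : IsUnit c) (g : Γ(X, i ⁻¹ᵁ W)) {n : ℕ} (hn0 : 0 < n)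
    (hn : IsUnit (n : Γ(X, ⊤))) (hg : g ^ n = i.app W c) : ∃ G : Γ(Z, W), i.app W G = g ∧ G ^ n = c := by
  have hnW : ∀ V : Z.Opens, IsUnit (n : Γ(X, i ⁻¹ᵁ V)) := fun V => by
    have := hn.map (resR (le_top : i ⁻¹ᵁ V ≤ ⊤))
    rwa [map_natCast] at this
  let I := {V : Z.affineOpens // V.1 ≤ W}
  have hloc : ∀ V : I, ∃ G : Γ(Z, V.1.1), i.app V.1.1 G = resR (i.preimage_mono V.2) g ∧ G ^ n = resR V.2 c :=
    fun V => exists_root i V.1.2 _ (hc.map _) _ hn0 (hnW _) (by rw [← map_pow, hg, app_resR])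
  choose G hG1 hG2 using hloc
  have hcov : ∀ p ∈ W, ∃ V : I, p ∈ V.1.1 := fun p hp => by
    obtain ⟨_, ⟨U, hU, rfl⟩, hpU, hUW⟩ := Z.isBasis_affineOpens.exists_subset_of_mem_open hp W.2
    exact ⟨⟨⟨U, hU⟩, hUW⟩, hpU⟩
  have hu : ∀ (V : Z.Opens) (hV : V ≤ W) (a b : Γ(Z, V)), i.app V a = resR (i.preimage_mono hV) g →
      i.app V b = resR (i.preimage_mono hV) g → a ^ n = resR hV c → b ^ n = resR hV c → a = b := by
    intro V hV a b ha hb ha' hb'
    have hbu : IsUnit b := (isUnit_pow_iff hn0.ne').1 (hb' ▸ hc.map _)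
    obtain ⟨w, rfl⟩ := hbu
    have h1 : a * ↑w⁻¹ = 1 := eq_one_of_pow_eq_one i _ (hnW V) (by
      rw [mul_pow, ha', ← hb', ← mul_pow, Units.mul_inv, one_pow]) (by
      rw [map_mul, ha, ← hb, ← map_mul, Units.mul_inv, map_one])
    exact eq_of_div_eq_one' h1
  obtain ⟨G', hG', -⟩ := existsUnique_glue (M := Coh.structureModule Z) (fun V : I => V.1.1) (fun V => V.2) hcov G
    fun V V' => by
      show resR _ (G V) = resR _ (G V')
      refine hu _ (inf_le_left.trans V.2) _ _ ?_ ?_ ?_ ?_
      · rw [app_resR, hG1, resR_resR]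
      · rw [app_resR, hG1, resR_resR]
      · rw [← map_pow, hG2, resR_resR]
      · rw [← map_pow, hG2, resR_resR]
  change Γ(Z, W) at G'
  replace hG' : ∀ V : I, resR V.2 G' = G V := hG'
  refine ⟨G', ?_, ?_⟩
  · refine eq_of_locally (M := Coh.structureModule X) _ _ fun q hq => ?_
    obtain ⟨V, hV⟩ := hcov (i q) hq
    refine ⟨i ⁻¹ᵁ V.1.1, i.preimage_mono V.2, hV, ?_⟩
    show resR _ (i.app W G') = resR _ g
    rw [← app_resR i V.2, hG' V, hG1]
  · refine eq_of_locally (M := Coh.structureModule Z) _ _ fun q hq => ?_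
    obtain ⟨V, hV⟩ := hcov q hq
    refine ⟨V.1.1, V.2, hV, ?_⟩
    show resR _ (G' ^ n) = resR _ c
    rw [map_pow, hG' V, hG2]
where
  eq_of_div_eq_one' {R : Type u} [CommRing R] {a : R} {w : Rˣ} (h : a * ↑w⁻¹ = 1) : a = w := by
    have := congrArg (· * (w : R)) h
    simpa [mul_assoc] using this

theorem main (n : ℕ) (hn : 0 < n) (hu : IsUnit (n : Γ(X, ⊤))) (L : X.Modules) (hL : PicF.IsInvertible L)
    (φ : CohB1.tensorPow L n ≅ Coh.structureModule X) :
    ∃ L' : Z.Modules, PicF.IsInvertible L' ∧ Nonempty (CohB1.tensorPow L' n ≅ Coh.structureModule Z) ∧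
      Nonempty ((Scheme.Modules.pullback i).obj L' ≅ L) := by
  choose U hpU hU e he using exists_chart i hL
  have hε : ∀ p, ∃ a : Γ(X, i ⁻¹ᵁ U p), IsUnit a ∧
      (show Γ(Coh.structureModule X, i ⁻¹ᵁ U p) from a) = φ.hom.app _ (powElt (e p) n) := by
    intro p
    refine ⟨φ.hom.app _ (powElt (e p) n), ?_, rfl⟩
    obtain ⟨r, hr⟩ := ((isFrame_powElt (he p) n).map_iso φ).exists_coord le_rfl
      (show Γ(Coh.structureModule X, i ⁻¹ᵁ U p) from (1 : Γ(X, i ⁻¹ᵁ U p)))
    rw [res_self] at hr
    exact IsUnit.of_mul_eq_one r ((mul_comm _ _).trans hr.symm)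
  choose a hau ha using hε
  choose A hA using fun p => i.app_surjective (U p) (hU p) (a p)
  have hAu : ∀ p, IsUnit (A p) := fun p => isUnit_of_isUnit_app i _ (hA p ▸ hau p)
  choose g hg using fun p q => (he q).exists_coord
    (i.preimage_mono (inf_le_right : U p ⊓ U q ≤ U q)) (res L (i.preimage_mono (inf_le_left : U p ⊓ U q ≤ U p)) (e p))
  have hga : ∀ p q, g p q ^ n * resR (i.preimage_mono (inf_le_right : U p ⊓ U q ≤ U q)) (a q) =
      resR (i.preimage_mono (inf_le_left : U p ⊓ U q ≤ U p)) (a p) := by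
    intro p q
    have h1 := congrArg (fun z => φ.hom.app _ (powElt z n)) (hg p q)
    simp only [powElt_smul, ← res_powElt, Scheme.Modules.Hom.app_smul, app_res] at h1
    rw [← ha p, ← ha q] at h1
    exact h1.symm
  have hgu : ∀ p q, IsUnit (g p q) := fun p q => (isUnit_pow_iff hn.ne').1
    (isUnit_of_mul_isUnit_left (hga p q ▸ (hau p).map _))
  have hG : ∀ p q, ∃ G : Γ(Z, U p ⊓ U q), i.app _ G = g p q ∧
      G ^ n * resR inf_le_right (A q) = resR inf_le_left (A p) := by
    intro p q
    obtain ⟨v, hv⟩ := (hAu q).map (resR (inf_le_right : U p ⊓ U q ≤ U q))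
    obtain ⟨G, h1, h2⟩ := exists_root' i (resR inf_le_left (A p) * ↑v⁻¹) (((hAu p).map _).mul v⁻¹.isUnit)
      (g p q) hn hu (by
        refine ((v.isUnit.map (i.app (U p ⊓ U q)).hom).mul_left_inj).1 ?_
        rw [← map_mul, mul_assoc, Units.inv_mul, mul_one, hv, app_resR, app_resR, hA, hA]
        exact hga p q)
    exact ⟨G, h1, by rw [h2, mul_assoc, ← hv, Units.inv_mul, mul_one]⟩
  choose G hG1 hG2 using hG
  have hGu : ∀ p q, IsUnit (G p q) := fun p q => isUnit_of_isUnit_app i _ ((hG1 p q).symm ▸ hgu p q)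
  let t : H23.CocycleMod.Cocycle U :=
    { g := fun p q => (hGu p q).unit
      trans := fun p q r W hp hq hr => by
        simp only [IsUnit.unit_spec]
        let x := resR (le_inf hq hr) (G q r) * resR (le_inf hp hq) (G p q)
        let y := resR (le_inf hp hr) (G p r)
        obtain ⟨w, hw⟩ : IsUnit y := (hGu p r).map _
        have hnW : IsUnit (n : Γ(X, i ⁻¹ᵁ W)) := by
          have := hu.map (resR (le_top : i ⁻¹ᵁ W ≤ ⊤))
          rwa [map_natCast] at this
        have key : x * ↑w⁻¹ = 1 := eq_one_of_pow_eq_one i _ hnW (by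
          have hAr : IsUnit (resR hr (A r)) := (hAu r).map _
          have e1 := congrArg (resR (le_inf hq hr)) (hG2 q r)
          have e2 := congrArg (resR (le_inf hp hq)) (hG2 p q)
          have e3 := congrArg (resR (le_inf hp hr)) (hG2 p r)
          rw [map_mul, map_pow, resR_resR, resR_resR] at e1 e2 e3
          have : x ^ n = (w : Γ(Z, W)) ^ n := by
            refine (hAr.mul_left_inj).1 ?_
            rw [hw, mul_pow, e3, mul_right_comm, e1, mul_comm, e2]
          rw [mul_pow, this, ← mul_pow, Units.mul_inv, one_pow]) (by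
          have : i.app W x = i.app W y := by
            rw [map_mul, app_resR, app_resR, app_resR, hG1, hG1, hG1]
            refine (he r).coord_unique (i.preimage_mono hr) ?_
            have e1 := congrArg (res L (i.preimage_mono (le_inf hq hr))) (hg q r)
            have e2 := congrArg (res L (i.preimage_mono (le_inf hp hq))) (hg p q)
            have e3 := congrArg (res L (i.preimage_mono (le_inf hp hr))) (hg p r)
            rw [res_smul, res_res, res_res] at e1 e2 e3
            rw [← e3, mul_comm, mul_smul, ← e1, ← e2]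
          rw [map_mul, this, ← hw, ← map_mul, Units.mul_inv, map_one])
        show y = x
        rw [← hw]
        exact (exists_root'.eq_of_div_eq_one' key).symm }
  let L' := H23.CocycleMod.mod t
  let f : ∀ p, Γ(L', U p) := H23.CocycleMod.frame t
  have hf : ∀ p, IsFrame (f p) := H23.CocycleMod.isFrame_frame t
  have hres : ∀ p q, res L' (inf_le_left : U p ⊓ U q ≤ U p) (f p) =
      G p q • res L' (inf_le_right : U p ⊓ U q ≤ U q) (f q) := fun p q => H23.CocycleMod.res_frame t p q
  have hL' : PicF.IsInvertible L' := isInvertible_of_frames fun p => ⟨U p, hpU p, f p, hf p⟩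
  refine ⟨L', hL', ?_, ?_⟩
  · refine nonempty_iso_of_frames U (fun p => ⟨p, hpU p⟩) (fun p => powElt (f p) n)
      (fun p => isFrame_powElt (hf p) n) (fun p => A p • (show Γ(Coh.structureModule Z, U p) from (1 : Γ(Z, U p))))
      (fun p => (isFrame_one (U p)).isUnit_smul (hAu p)) fun p q W hp hq z hz => ?_
    have e1 := congrArg (fun s => powElt (res L' (le_inf hq hp) s) n) (hres q p)
    simp only [res_smul, res_res, powElt_smul] at e1
    rw [res_powElt, res_powElt, e1] at hz
    have hzz : resR (le_inf hq hp) (G q p) ^ n = z := by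
      refine (isFrame_powElt ((hf p).res hp) n).coord_unique le_rfl ?_
      rw [res_self]
      exact hz
    have e2 := congrArg (resR (le_inf hq hp)) (hG2 q p)
    rw [map_mul, map_pow, resR_resR, resR_resR] at e2
    show resR hq (A q * 1) = z * resR hp (A p * 1)
    rw [mul_one, mul_one, ← hzz, e2]
  · refine nonempty_iso_of_frames (fun p => i ⁻¹ᵁ U p) (fun x => ⟨i x, hpU (i x)⟩) (fun p => pullElt i (f p))
      (fun p => isFrame_pullElt i (hf p)) e he fun p q W hp hq z hz => ?_
    have hW : W ≤ i ⁻¹ᵁ (U q ⊓ U p) := le_inf hq hp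
    have e1 := congrArg (fun s => res ((Scheme.Modules.pullback i).obj L') hW (pullElt i s)) (hres q p)
    simp only [pullElt_smul, ← res_pullElt, res_smul, res_res, hG1] at e1
    rw [e1] at hz
    have hzz : resR hW (g q p) = z := (isFrame_pullElt i (hf p)).coord_unique hp hz
    have e2 := congrArg (res L hW) (hg q p)
    rw [res_smul, res_res, res_res] at e2
    rw [← hzz, ← e2]

end Groth.Agent.TorsPic
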