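import Groth.Agent.TorsPic.Iso
import Groth.Agent.AmpleX.Extend
import Groth.Agent.InvX.GenLocusPull
import Groth.Agent.PnCoh.Chow.Basic
import Groth.Agent.S2102
import Mathlib.AlgebraicGeometry.Morphisms.Etale
import Mathlib.RingTheory.Unramified.Field
import Mathlib.FieldTheory.PurelyInseparable.PerfectClosure

/-!
# `p`-torsion invertible modules and étale covers in characteristic `p`
-/

universe u

open CategoryTheory AlgebraicGeometry TopologicalSpace

set_option linter.style.haveILetI false
set_option maxHeartbeats 1000000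
set_option backward.isDefEq.respectTransparency false
set_option backward.isDefEq.respectTransparency.types false

namespace Groth.Agent.TorsPic

open Groth.Agent Groth.Agent.AModX Groth.Agent.InvX Groth.Agent.AmpleX

theorem exists_root_of_etale {A B : Type u} [CommRing A] [IsDomain A] [IsIntegrallyClosed A] [CommRing B]
    [Algebra A B] [Algebra.Etale A B] (p : ℕ) [Fact p.Prime] [CharP A p]
    (hinj : Function.Injective (algebraMap A B)) (a : A) (g : B) (hg : g ^ p = algebraMap A B a) :
    ∃ b : A, algebraMap A B b = g := by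
  let K := FractionRing A
  haveI : CharP K p := charP_of_injective_algebraMap (IsFractionRing.injective A K) p
  let E := TensorProduct A K B
  let ι : B →ₐ[A] E := Algebra.TensorProduct.includeRight
  haveI : Module.Flat A B := inferInstance
  have hι : Function.Injective ι :=
    Algebra.TensorProduct.includeRight_injective (IsFractionRing.injective A K)
  haveI : Algebra.Etale K E := inferInstance
  haveI : IsReduced E := Algebra.FormallyUnramified.isReduced_of_field K E
  haveI : Nontrivial B := hinj.nontrivial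
  haveI : Nontrivial E := hι.nontrivial
  obtain ⟨m, hm⟩ := Ideal.exists_maximal E
  let F := E ⧸ m
  letI : Field F := Ideal.Quotient.field m
  haveI : Algebra.FormallyUnramified K F :=
    Algebra.FormallyUnramified.of_surjective (Ideal.Quotient.mkₐ K m) Ideal.Quotient.mk_surjective
  haveI : Algebra.FiniteType K F :=
    Algebra.FiniteType.of_surjective (Ideal.Quotient.mkₐ K m) Ideal.Quotient.mk_surjective
  haveI : Algebra.IsSeparable K F := Algebra.FormallyUnramified.isSeparable K F
  haveI : ExpChar K p := ExpChar.prime Fact.out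
  let y : F := Ideal.Quotient.mk m (ι g)
  have hy : y ^ p = algebraMap K F (algebraMap A K a) := by
    show (Ideal.Quotient.mk m (ι g)) ^ p = _
    rw [← map_pow, ← map_pow, hg, AlgHom.commutes, IsScalarTower.algebraMap_apply A K E]
    rfl
  have hyK : y ∈ (⊥ : IntermediateField K F) := by
    have h1 : IntermediateField.adjoin K {y ^ p} = (⊥ : IntermediateField K F) :=
      IntermediateField.adjoin_simple_eq_bot_iff.2 (IntermediateField.mem_bot.2 ⟨_, hy.symm⟩)
    rw [← h1, ← IntermediateField.adjoin_simple_eq_adjoin_pow_expChar_of_isSeparable' K F y p]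
    exact IntermediateField.mem_adjoin_simple_self K y
  obtain ⟨c, hc⟩ := IntermediateField.mem_bot.1 hyK
  have hcp : c ^ p = algebraMap A K a := (algebraMap K F).injective (by rw [map_pow, hc, hy])
  obtain ⟨b, hb⟩ := IsIntegrallyClosed.algebraMap_eq_of_integral (R := A) (K := K) (x := c)
    (IsIntegral.of_pow (Nat.Prime.pos Fact.out) (hcp ▸ isIntegral_algebraMap))
  refine ⟨b, hι ?_⟩
  haveI : CharP E p := charP_of_injective_algebraMap (algebraMap K E).injective p
  refine (frobenius_inj E p) ?_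
  show ι (algebraMap A B b) ^ p = ι g ^ p
  have h : b ^ p = a := IsFractionRing.injective A K (by rw [map_pow, hb, hcp])
  rw [← map_pow ι, ← map_pow (algebraMap A B), h, ← map_pow ι, hg]

theorem app_resR' {X Z : Scheme.{u}} (i : X ⟶ Z) {V W : Z.Opens} (h : W ≤ V) (a : Γ(Z, V)) :
    i.app W (resR h a) = resR (i.preimage_mono h) (i.app V a) :=
  congrArg (fun k => k.hom a) (i.naturality (homOfLE h).op)

theorem isNormal_opens {X : Scheme.{u}} (hn : Pi1.IsNormalScheme X) (U : X.Opens) :
    Pi1.IsNormalScheme U.toScheme := fun x => by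
  let e := (asIso (U.ι.stalkMap x)).commRingCatIsoToRingEquiv
  obtain ⟨h1, h2⟩ := hn (U.ι x)
  haveI := h1
  haveI := h2
  exact ⟨e.symm.toMulEquiv.isDomain (X.presheaf.stalk (U.ι x)), IsIntegrallyClosed.of_equiv e⟩

/-- A `p`-torsion class trivialised by a finite étale cover on which units are `p`-th powers is trivial. -/
theorem nonempty_iso_of_etale_triv {X X' : Scheme.{u}} [IsIntegral X] (hn : Pi1.IsNormalScheme X) (p : ℕ)
    [Fact p.Prime] [CharP Γ(X, ⊤) p] (hfield : IsField Γ(X, ⊤)) (M : X.Modules) (hM : PicF.IsInvertible M)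
    (θ : CohB1.tensorPow M p ≅ Coh.structureModule X)
    (hroot : ∀ u : Γ(X', ⊤), IsUnit u → ∃ v : Γ(X', ⊤), v ^ p = u)
    (f : X' ⟶ X) [Etale f] [IsAffineHom f] [Surjective f]
    (ψ : (Scheme.Modules.pullback f).obj M ≅ Coh.structureModule X') :
    Nonempty (M ≅ Coh.structureModule X) := by
  classical
  have hfr : ∀ x : X, ∃ (U : X.Opens) (_ : IsAffineOpen U) (_ : x ∈ U) (e : Γ(M, U)), IsFrame e := fun x => by
    obtain ⟨U, hxU, e, he⟩ := exists_frame hM x
    obtain ⟨_, ⟨W, hW, rfl⟩, hxW, hle⟩ :=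
      X.isBasis_affineOpens.exists_subset_of_mem_open (show x ∈ U from hxU) U.2
    exact ⟨W, hW, hxW, _, he.res (show W ≤ U from hle)⟩
  choose U hU hxU e he using hfr
  have hunit : ∀ {Y : Scheme.{u}} {W : Y.Opens} {c : Γ(Coh.structureModule Y, W)}, IsFrame c →
      IsUnit (show Γ(Y, W) from c) := fun {Y W c} hc => by
    obtain ⟨r, hr⟩ := hc.exists_coord le_rfl (show Γ(Coh.structureModule Y, W) from (1 : Γ(Y, W)))
    rw [res_self] at hr
    exact IsUnit.of_mul_eq_one r ((mul_comm _ _).trans hr.symm)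
  let a : ∀ x, Γ(X, U x) := fun x => θ.hom.app (U x) (powElt (e x) p)
  have hau : ∀ x, IsUnit (a x) := fun x => hunit ((isFrame_powElt (he x) p).map_iso θ)
  let h : ∀ x, Γ(X', f ⁻¹ᵁ U x) := fun x => ψ.hom.app _ (pullElt f (e x))
  have hhu : ∀ x, IsUnit (h x) := fun x => hunit ((isFrame_pullElt f (he x)).map_iso ψ)
  have htrans : ∀ (x y : X) (V : X.Opens) (hx : V ≤ U x) (hy : V ≤ U y) (k : Γ(X, V)),
      res M hy (e y) = k • res M hx (e x) →
        resR hy (a y) = k ^ p * resR hx (a x) ∧
          resR (f.preimage_mono hy) (h y) = f.app V k * resR (f.preimage_mono hx) (h x) := by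
    intro x y V hx hy k hk
    constructor
    · have h1 := congrArg (fun z => θ.hom.app V (powElt z p)) hk
      simp only [powElt_smul, ← res_powElt, Scheme.Modules.Hom.app_smul, AModX.app_res] at h1
      exact h1
    · have h1 := congrArg (fun z => ψ.hom.app (f ⁻¹ᵁ V) (pullElt f z)) hk
      simp only [pullElt_smul, ← res_pullElt, Scheme.Modules.Hom.app_smul, AModX.app_res] at h1
      exact h1
  -- the ratio
  obtain ⟨u, hu, -⟩ := existsUnique_glue (M := Coh.structureModule X') (V := (⊤ : X'.Opens))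
    (fun x : X => f ⁻¹ᵁ U x) (fun _ => le_top) (fun q _ => ⟨f q, hxU (f q)⟩)
    (fun x => (f.app (U x) (a x) * ↑((hhu x).unit⁻¹) ^ p : Γ(X', f ⁻¹ᵁ U x))) fun x y => by
      let V := U x ⊓ U y
      obtain ⟨k, hk⟩ := (he x).exists_coord (inf_le_left : V ≤ U x) (res M (inf_le_right : V ≤ U y) (e y))
      obtain ⟨hak, hhk⟩ := htrans x y V inf_le_left inf_le_right k hk
      let W := f ⁻¹ᵁ U x ⊓ f ⁻¹ᵁ U y
      have hW : W ≤ f ⁻¹ᵁ V := le_of_eq (Scheme.Hom.preimage_inf f).symm
      have ha' : resR (inf_le_right : W ≤ f ⁻¹ᵁ U y) (f.app (U y) (a y)) =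
          resR hW (f.app V k) ^ p * resR (inf_le_left : W ≤ f ⁻¹ᵁ U x) (f.app (U x) (a x)) := by
        have h1 := congrArg (fun z => resR hW (f.app V z)) hak
        simp only [map_mul, map_pow, app_resR', resR_resR] at h1
        exact h1
      have hh' : resR (inf_le_right : W ≤ f ⁻¹ᵁ U y) (h y) =
          resR hW (f.app V k) * resR (inf_le_left : W ≤ f ⁻¹ᵁ U x) (h x) := by
        have h1 := congrArg (resR hW) hhk
        rw [map_mul, resR_resR, resR_resR] at h1
        exact h1
      show resR (inf_le_left : W ≤ _) _ = resR (inf_le_right : W ≤ _) _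
      simp only [map_mul, map_pow]
      obtain ⟨wx, hwx⟩ : IsUnit (resR (inf_le_left : W ≤ f ⁻¹ᵁ U x) (h x)) := (hhu x).map _
      obtain ⟨wy, hwy⟩ : IsUnit (resR (inf_le_right : W ≤ f ⁻¹ᵁ U y) (h y)) := (hhu y).map _
      have ix : resR (inf_le_left : W ≤ f ⁻¹ᵁ U x) ↑((hhu x).unit⁻¹) = ↑wx⁻¹ := by
        refine Units.eq_inv_of_mul_eq_one_left ?_
        rw [hwx, ← map_mul, IsUnit.mul_val_inv, map_one]
      have iy : resR (inf_le_right : W ≤ f ⁻¹ᵁ U y) ↑((hhu y).unit⁻¹) = ↑wy⁻¹ := by
        refine Units.eq_inv_of_mul_eq_one_left ?_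
        rw [hwy, ← map_mul, IsUnit.mul_val_inv, map_one]
      rw [ix, iy, ha', mul_right_comm, ← mul_pow]
      have key : resR hW (f.app V k) * ↑wy⁻¹ = (↑wx⁻¹ : Γ(X', W)) := by
        refine (Units.mul_left_inj wy).1 ?_
        rw [Units.inv_mul_cancel_right, hwy, hh', ← hwx, mul_left_comm, Units.inv_mul, mul_one]
      rw [key, mul_comm]
  change Γ(X', ⊤) at u
  replace hu : ∀ x, resR (le_top : f ⁻¹ᵁ U x ≤ ⊤) u = f.app (U x) (a x) * ↑((hhu x).unit⁻¹) ^ p := hu
  have huu : IsUnit u := by
    suffices htop : X'.basicOpen u = ⊤ by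
      have := isUnit_resR (le_refl (⊤ : X'.Opens)) u htop.ge
      rwa [resR_self] at this
    refine eq_top_iff.2 fun q _ => ?_
    have h1 : IsUnit (resR (le_top : f ⁻¹ᵁ U (f q) ≤ ⊤) u) := by
      rw [hu]; exact ((hau (f q)).map _).mul ((Units.isUnit _).pow _)
    have h2 := X'.basicOpen_of_isUnit h1
    rw [show X'.basicOpen (resR (le_top : f ⁻¹ᵁ U (f q) ≤ ⊤) u) = _ from X'.basicOpen_res u _] at h2
    exact (h2.ge (hxU (f q) : q ∈ f ⁻¹ᵁ U (f q))).2
  obtain ⟨v, rfl⟩ := hroot u huu
  -- the roots downstairs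
  have hb : ∀ x, ∃ b : Γ(X, U x), f.app (U x) b = h x * resR (le_top : f ⁻¹ᵁ U x ≤ ⊤) v := fun x => by
    haveI : Nonempty ↥(U x).toScheme := ⟨⟨x, hxU x⟩⟩
    letI := (f.app (U x)).hom.toAlgebra
    haveI : Algebra.Etale Γ(X, U x) Γ(X', f ⁻¹ᵁ U x) := by
      have := f.etale_appLE (hU x) ((hU x).preimage f) le_rfl
      rwa [Scheme.Hom.appLE_eq_app] at this
    haveI : IsDomain Γ(X, U x) := IsIntegral.component_integral (U x)
    haveI : IsIntegrallyClosed Γ(X, U x) := by
      haveI : AlgebraicGeometry.IsIntegral (U x).toScheme := isIntegral_of_isOpenImmersion (U x).ι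
      haveI : IsIntegrallyClosed Γ((U x).toScheme, ⊤) := S2102.result _ (isNormal_opens hn _)
      exact IsIntegrallyClosed.of_equiv (U x).topIso.commRingCatIsoToRingEquiv
    haveI : CharP Γ(X, U x) p := by
      letI := hfield.toField
      exact charP_of_injective_ringHom (f := (resR (le_top : U x ≤ ⊤) : Γ(X, ⊤) →+* Γ(X, U x)))
        (RingHom.injective _) p
    refine exists_root_of_etale p (PnCoh.Chow.app_injective_of_isDominant f (U x)) (a x) _ ?_
    rw [mul_pow, ← map_pow, hu x, ← mul_assoc, mul_comm (h x ^ p), mul_assoc, ← mul_pow, IsUnit.mul_val_inv,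
      one_pow, mul_one]
    rfl
  choose b hb using hb
  refine nonempty_iso_of_frames U (fun x => ⟨x, hxU x⟩) e he
    (fun x => (show Γ(Coh.structureModule X, U x) from b x)) (fun x => ?_) fun x y V hx hy k hk => ?_
  · have hbu : IsUnit (b x) := by
      refine (isUnit_pow_iff (Nat.Prime.pos (Fact.out : p.Prime)).ne').1 (?_ : IsUnit (b x ^ p))
      have : b x ^ p = a x := PnCoh.Chow.app_injective_of_isDominant f (U x) (by
        rw [map_pow, hb x, mul_pow, ← map_pow, hu x, ← mul_assoc, mul_comm (h x ^ p), mul_assoc, ← mul_pow,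
          IsUnit.mul_val_inv, one_pow, mul_one])
      exact this ▸ hau x
    have h1 := (isFrame_one (U x)).isUnit_smul hbu
    have h2 : (b x • (show Γ(Coh.structureModule X, U x) from (1 : Γ(X, U x)))) =
        (show Γ(Coh.structureModule X, U x) from b x) := mul_one (b x)
    rwa [h2] at h1
  · show resR hy (b y) = k * resR hx (b x)
    refine PnCoh.Chow.app_injective_of_isDominant f V ?_
    obtain ⟨-, hhk⟩ := htrans x y V hx hy k hk
    rw [map_mul, app_resR', app_resR', hb, hb, map_mul, map_mul, resR_resR, resR_resR, hhk, mul_assoc]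

end Groth.Agent.TorsPic
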